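import Mathlib

/-!
# Unramified finite algebras in characteristic `p` are generated by `p`-th powers
-/

set_option autoImplicit false
set_option linter.style.haveILetI false
set_option linter.unusedSimpArgs false
set_option linter.unusedVariables false

universe u

namespace Groth.Agent.H78.CharPCover

theorem charP_of_cast_eq_zero {T : Type*} [CommRing T] [Nontrivial T] (p : ℕ) [hp : Fact p.Prime]
    (h : (p : T) = 0) : CharP T p :=
  (CharP.charP_iff_prime_eq_zero hp.out).2 h

theorem add_pow_of_cast_eq_zero {T : Type*} [CommRing T] (p : ℕ) [Fact p.Prime]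
    (hp : (p : T) = 0) (x y : T) : (x + y) ^ p = x ^ p + y ^ p := by
  rcases subsingleton_or_nontrivial T with h | h
  · exact Subsingleton.elim _ _
  · haveI : CharP T p := charP_of_cast_eq_zero p hp
    exact add_pow_char x y p

theorem sum_pow_of_cast_eq_zero {T : Type*} [CommRing T] (p : ℕ) [Fact p.Prime]
    (hp : (p : T) = 0) {ι : Type*} (s : Finset ι) (f : ι → T) :
    (∑ i ∈ s, f i) ^ p = ∑ i ∈ s, f i ^ p := by
  rcases subsingleton_or_nontrivial T with h | h
  · exact Subsingleton.elim _ _
  · haveI : CharP T p := charP_of_cast_eq_zero p hp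
    exact sum_pow_char p s f

/-- Nakayama: a submodule `N` of a finite module with `N + nM = M` for all maximal `n` is `⊤` -/
theorem eq_top_of_forall_maximal_sup_smul_eq_top {S M : Type*} [CommRing S] [AddCommGroup M]
    [Module S M] [Module.Finite S M] (N : Submodule S M)
    (h : ∀ n : Ideal S, n.IsMaximal → N ⊔ n • (⊤ : Submodule S M) = ⊤) : N = ⊤ := by
  by_contra hN
  set M' := M ⧸ N with hM'
  set J : Ideal S := (⊤ : Submodule S M').annihilator with hJ
  have hJne : J ≠ ⊤ := by
    intro hJt
    apply hN
    have h1 : (1 : S) ∈ J := by rw [hJt]; trivial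
    rw [eq_top_iff]
    intro x _
    have h2 := (Submodule.mem_annihilator.1 h1) (N.mkQ x) trivial
    rw [one_smul] at h2
    exact (Submodule.Quotient.mk_eq_zero N).1 h2
  obtain ⟨n, hn, hJn⟩ := Ideal.exists_le_maximal J hJne
  have h1 : (⊤ : Submodule S M') ≤ n • (⊤ : Submodule S M') := by
    have h2 := h n hn
    have h3 : Submodule.map N.mkQ (N ⊔ n • (⊤ : Submodule S M)) = ⊤ := by
      rw [h2, Submodule.map_top, Submodule.range_mkQ]
    rw [Submodule.map_sup, Submodule.map_smul'', Submodule.map_top, Submodule.range_mkQ] at h3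
    have h4 : Submodule.map N.mkQ N = ⊥ := Submodule.mkQ_map_self N
    rw [h4, bot_sup_eq] at h3
    rw [h3]
  obtain ⟨r, hr1, hr2⟩ := Submodule.exists_sub_one_mem_and_smul_eq_zero_of_fg_of_le_smul n
    (⊤ : Submodule S M') (Module.finite_def.1 inferInstance) h1
  have hrJ : r ∈ J := Submodule.mem_annihilator.2 fun m hm => hr2 m hm
  have hrn : r ∈ n := hJn hrJ
  have : (1 : S) ∈ n := by
    have := n.sub_mem hrn hr1
    simpa using this
  exact hn.ne_top ((Ideal.eq_top_iff_one n).2 this)


section frob

variable (p : ℕ) [hp : Fact p.Prime] (A B : Type u) [CommRing A] [CommRing B] [Algebra A B]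

/-- the `A`-span of the `p`-th powers, as a subalgebra -/
noncomputable def powSub : Subalgebra A B :=
  (Submodule.span A (Set.range fun b : B => b ^ p)).toSubalgebra
    (Submodule.subset_span ⟨1, one_pow p⟩)
    (by
      intro x y hx hy
      have h1 : x * y ∈ Submodule.span A (Set.range fun b : B => b ^ p) *
          Submodule.span A (Set.range fun b : B => b ^ p) := Submodule.mul_mem_mul hx hy
      rw [Submodule.span_mul_span] at h1
      refine Submodule.span_mono ?_ h1
      rintro _ ⟨_, ⟨b, rfl⟩, _, ⟨b', rfl⟩, rfl⟩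
      exact ⟨b * b', by simp [mul_pow]⟩)

omit hp in
theorem pow_mem_powSub (b : B) : b ^ p ∈ powSub p A B :=
  Submodule.subset_span ⟨b, rfl⟩

omit hp in
theorem mem_powSub_iff (x : B) :
    x ∈ powSub p A B ↔ x ∈ Submodule.span A (Set.range fun b : B => b ^ p) := Iff.rfl

variable [Module.Finite A B] [Algebra.FormallyUnramified A B]

/-- finite unramified algebras in characteristic `p` are spanned by `p`-th powers -/
theorem span_pow_eq_top (hpA : (p : A) = 0) :
    Submodule.span A (Set.range fun b : B => b ^ p) = ⊤ := by
  set S := powSub p A B with hS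
  have hpS : (p : S) = 0 := by
    have : algebraMap A S (p : A) = 0 := by rw [hpA, map_zero]
    simpa using this
  have hpB : (p : B) = 0 := by
    have : algebraMap A B (p : A) = 0 := by rw [hpA, map_zero]
    simpa using this
  haveI : Module.Finite S B := Module.Finite.of_restrictScalars_finite A S B
  haveI : Algebra.FormallyUnramified S B := Algebra.FormallyUnramified.of_restrictScalars A S B
  set N : Submodule S B := LinearMap.range (Algebra.linearMap S B) with hN
  have key : N = ⊤ := by
    apply eq_top_of_forall_maximal_sup_smul_eq_top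
    intro n hn
    haveI := hn
    rw [eq_top_iff]
    intro b _
    -- the fibre
    set E := B ⧸ n.map (algebraMap S B) with hE
    letI : Field (S ⧸ n) := Ideal.Quotient.field n
    have hpκ : (p : S ⧸ n) = 0 := by
      have : Ideal.Quotient.mk n (p : S) = 0 := by rw [hpS, map_zero]
      simpa using this
    haveI : CharP (S ⧸ n) p := charP_of_cast_eq_zero p hpκ
    have hpE : (p : E) = 0 := by
      have : Ideal.Quotient.mk (n.map (algebraMap S B)) (p : B) = 0 := by rw [hpB, map_zero]
      simpa using this
    -- surjectivity of `κ → E`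
    have hsurj : Function.Surjective (algebraMap (S ⧸ n) E) := by
      rcases subsingleton_or_nontrivial E with hsub | hnon
      · intro x; exact ⟨0, Subsingleton.elim _ _⟩
      have hpow : ∀ x : E, ∃ c : S ⧸ n, x ^ p = algebraMap (S ⧸ n) E c := by
        intro x
        obtain ⟨y, rfl⟩ := Ideal.Quotient.mk_surjective x
        refine ⟨Ideal.Quotient.mk n ⟨y ^ p, pow_mem_powSub p A B y⟩, ?_⟩
        rw [Ideal.Quotient.algebraMap_quotient_map_quotient, ← map_pow]
        rfl
      haveI : IsReduced E := Algebra.FormallyUnramified.isReduced_of_field (S ⧸ n) E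
      have hfield : IsField E := by
        refine ⟨exists_pair_ne E, mul_comm, ?_⟩
        intro x hx
        obtain ⟨c, hc⟩ := hpow x
        have hc0 : c ≠ 0 := by
          rintro rfl
          rw [map_zero] at hc
          exact hx (IsReduced.eq_zero x ⟨p, hc⟩)
        refine ⟨x ^ (p - 1) * algebraMap (S ⧸ n) E c⁻¹, ?_⟩
        have hp1 : p = (p - 1) + 1 := (Nat.succ_pred_eq_of_pos hp.out.pos).symm
        calc x * (x ^ (p - 1) * algebraMap (S ⧸ n) E c⁻¹)
            = x ^ ((p - 1) + 1) * algebraMap (S ⧸ n) E c⁻¹ := by ring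
          _ = 1 := by rw [← hp1, hc, ← map_mul, mul_inv_cancel₀ hc0, map_one]
      letI : Field E := hfield.toField
      haveI : ExpChar (S ⧸ n) p := ExpChar.prime hp.out
      haveI : IsPurelyInseparable (S ⧸ n) E := by
        rw [isPurelyInseparable_iff_pow_mem (S ⧸ n) p]
        intro x
        obtain ⟨c, hc⟩ := hpow x
        exact ⟨1, c, by rw [pow_one]; exact hc.symm⟩
      have h := Algebra.FormallyUnramified.range_eq_top_of_isPurelyInseparable (S ⧸ n) E
      intro x
      have : x ∈ (algebraMap (S ⧸ n) E).range := by rw [h]; trivial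
      exact this
    obtain ⟨c, hc⟩ := hsurj (Ideal.Quotient.mk _ b)
    obtain ⟨s, rfl⟩ := Ideal.Quotient.mk_surjective c
    rw [Ideal.Quotient.algebraMap_quotient_map_quotient, Ideal.Quotient.eq] at hc
    have h1 : b = algebraMap S B s + (b - algebraMap S B s) := by ring
    rw [h1]
    apply Submodule.add_mem
    · exact Submodule.mem_sup_left ⟨s, rfl⟩
    · apply Submodule.mem_sup_right
      rw [Ideal.smul_top_eq_map]
      have := Ideal.neg_mem_iff _ |>.2 hc
      simpa using this
  rw [eq_top_iff]
  intro b _
  have hb : b ∈ N := by rw [key]; trivial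
  obtain ⟨s, rfl⟩ := hb
  exact s.2

end frob

end Groth.Agent.H78.CharPCover
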