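import Mathlib
import Groth.Agent.H78.CharPCover.FrobGen

/-!
# The finite étale covers `R[x] / (x^p = Θ x)` in characteristic `p`
-/

set_option autoImplicit false
set_option linter.style.haveILetI false
set_option linter.unusedSimpArgs false
set_option linter.unusedVariables false

universe u

open MvPolynomial

namespace Groth.Agent.H78.CharPCover

section cover

variable (p : ℕ) [hp : Fact p.Prime] {R : Type u} [CommRing R] {ι : Type} [Fintype ι]
  [DecidableEq ι] (Θ : Matrix ι ι R)

/-- the relation `x_j^p - Σ_i Θ_ji x_i` -/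
noncomputable def rel (j : ι) : MvPolynomial ι R := X j ^ p - ∑ i, C (Θ j i) * X i

/-- the ideal of relations -/
noncomputable def relIdeal : Ideal (MvPolynomial ι R) := Ideal.span (Set.range (rel p Θ))

/-- the cover -/
abbrev Cov : Type u := MvPolynomial ι R ⧸ relIdeal p Θ

/-- the generators -/
noncomputable def gen (i : ι) : Cov p Θ := Ideal.Quotient.mk _ (X i)

theorem gen_pow (j : ι) :
    gen p Θ j ^ p = ∑ i, algebraMap R (Cov p Θ) (Θ j i) * gen p Θ i := by
  have h : Ideal.Quotient.mk (relIdeal p Θ) (rel p Θ j) = 0 :=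
    Ideal.Quotient.eq_zero_iff_mem.2 (Ideal.subset_span ⟨j, rfl⟩)
  rw [rel, map_sub, sub_eq_zero, map_pow, map_sum] at h
  rw [gen, h]
  apply Finset.sum_congr rfl
  intro i _
  rw [map_mul]
  rfl

/-- maps out of the cover -/
noncomputable def lift {T : Type*} [CommRing T] [Algebra R T] (t : ι → T)
    (ht : ∀ j, t j ^ p = ∑ i, algebraMap R T (Θ j i) * t i) : Cov p Θ →ₐ[R] T :=
  Ideal.Quotient.liftₐ (relIdeal p Θ) (MvPolynomial.aeval t) (by
    intro a ha
    have : relIdeal p Θ ≤ RingHom.ker (MvPolynomial.aeval t : MvPolynomial ι R →ₐ[R] T) := by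
      rw [relIdeal, Ideal.span_le]
      rintro _ ⟨j, rfl⟩
      rw [SetLike.mem_coe, RingHom.mem_ker, rel, map_sub, map_pow, map_sum, aeval_X, ht j,
        sub_eq_zero]
      apply Finset.sum_congr rfl
      intro i _
      rw [map_mul, aeval_X, aeval_C]
    exact RingHom.mem_ker.1 (this ha))

@[simp]
theorem lift_gen {T : Type*} [CommRing T] [Algebra R T] (t : ι → T)
    (ht : ∀ j, t j ^ p = ∑ i, algebraMap R T (Θ j i) * t i) (i : ι) :
    lift p Θ t ht (gen p Θ i) = t i := by
  change (aeval t) (X i) = t i
  simp

theorem algHom_ext {T : Type*} [CommRing T] [Algebra R T] (f g : Cov p Θ →ₐ[R] T)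
    (h : ∀ i, f (gen p Θ i) = g (gen p Θ i)) : f = g := by
  apply Ideal.Quotient.algHom_ext
  apply MvPolynomial.algHom_ext
  intro i
  exact h i

/-- finiteness -/
theorem finite_cov : Module.Finite R (Cov p Θ) := by
  classical
  set mk : MvPolynomial ι R →ₐ[R] Cov p Θ := Ideal.Quotient.mkₐ R (relIdeal p Θ) with hmk
  let G : (ι → Fin p) → Cov p Θ := fun g =>
    mk (monomial (Finsupp.equivFunOnFinite.symm (fun i => (g i : ℕ))) 1)
  set M : Submodule R (Cov p Θ) := Submodule.span R (Set.range G) with hM
  have hmono : ∀ (d : ℕ) (e : ι →₀ ℕ), e.degree = d → mk (monomial e 1) ∈ M := by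
    intro d
    induction d using Nat.strong_induction_on with
    | _ d ih =>
      intro e hed
      by_cases hred : ∀ i, e i < p
      · apply Submodule.subset_span
        refine ⟨fun i => ⟨e i, hred i⟩, ?_⟩
        simp only [G]
        congr 2
        ext i
        simp
      · push Not at hred
        obtain ⟨j, hj⟩ := hred
        set e' : ι →₀ ℕ := e - Finsupp.single j p with he'
        have hee : e = e' + Finsupp.single j p := by
          ext i
          by_cases hij : i = j
          · subst hij; simp [he', Nat.sub_add_cancel hj]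
          · simp [he', Finsupp.single_apply, Ne.symm hij]
        have h1 : (monomial e (1 : R)) = X j ^ p * monomial e' 1 := by
          rw [hee, X_pow_eq_monomial, monomial_mul, one_mul, add_comm]
        have h2 : mk (X j ^ p) = ∑ i, algebraMap R (Cov p Θ) (Θ j i) * mk (X i) := by
          have := gen_pow p Θ j
          simpa [gen, hmk] using this
        rw [h1, map_mul, h2, Finset.sum_mul]
        apply Submodule.sum_mem
        intro i _
        rw [mul_assoc, ← Algebra.smul_def]
        apply Submodule.smul_mem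
        have h3 : mk (X i) * mk (monomial e' 1) = mk (monomial (e' + Finsupp.single i 1) 1) := by
          rw [← map_mul, X, monomial_mul, one_mul, add_comm]
        rw [h3]
        have hdeg : (e' + Finsupp.single i 1).degree < d := by
          have hd1 : e.degree = e'.degree + p := by
            conv_lhs => rw [hee]
            rw [map_add, Finsupp.degree_single]
          rw [map_add, Finsupp.degree_single]
          have := hp.out.two_le
          omega
        exact ih _ hdeg _ rfl
  have htop : (⊤ : Submodule R (Cov p Θ)) ≤ M := by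
    intro x _
    obtain ⟨f, rfl⟩ := Ideal.Quotient.mk_surjective x
    have claim : ∀ f : MvPolynomial ι R, mk f ∈ M := by
      intro f
      induction f using MvPolynomial.induction_on' with
      | monomial e a =>
        have : monomial e a = a • monomial e (1 : R) := by
          rw [smul_monomial, smul_eq_mul, mul_one]
        rw [this, map_smul]
        exact Submodule.smul_mem _ _ (hmono _ e rfl)
      | add f g hf hg =>
        rw [map_add]
        exact Submodule.add_mem _ hf hg
    exact claim f
  refine ⟨?_⟩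
  rw [← top_le_iff.1 htop, hM]
  exact Submodule.fg_span (Set.finite_range G)

theorem finitePresentation_cov : Algebra.FinitePresentation R (Cov p Θ) := by
  apply Algebra.FinitePresentation.quotient
  rw [relIdeal]
  exact Submodule.fg_span (Set.finite_range _)

theorem pow_add_eq_of_sq_eq_bot {T : Type*} [CommRing T] (hpT : (p : T) = 0) (J : Ideal T)
    (hJ : J ^ 2 = ⊥) (t ε : T) (hε : ε ∈ J) : (t + ε) ^ p = t ^ p := by
  rw [add_pow_of_cast_eq_zero p hpT]
  have h2 : ε ^ 2 = 0 := by
    have : ε ^ 2 ∈ J ^ 2 := Ideal.pow_mem_pow hε 2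
    rw [hJ] at this
    exact this
  have hp2 := hp.out.two_le
  have : ε ^ p = ε ^ 2 * ε ^ (p - 2) := by rw [← pow_add]; congr 1; omega
  rw [this, h2, zero_mul, add_zero]

variable (Θ' : Matrix ι ι R)

/-- formal étaleness -/
theorem formallyEtale_cov (hpR : (p : R) = 0) (h1 : Θ' * Θ = 1) :
    Algebra.FormallyEtale R (Cov p Θ) := by
  have h2 : Θ * Θ' = 1 := mul_eq_one_comm.1 h1
  rw [Algebra.FormallyEtale.iff_comp_bijective]
  intro T _ _ J hJ
  have hpT : (p : T) = 0 := by
    have : algebraMap R T (p : R) = 0 := by rw [hpR, map_zero]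
    simpa using this
  set ΘT : Matrix ι ι T := Θ.map (algebraMap R T) with hΘT
  set ΘT' : Matrix ι ι T := Θ'.map (algebraMap R T) with hΘT'
  have hT1 : ΘT' * ΘT = 1 := by
    rw [hΘT, hΘT', ← Matrix.map_mul, h1, Matrix.map_one _ (map_zero _) (map_one _)]
  have hT2 : ΘT * ΘT' = 1 := by
    rw [hΘT, hΘT', ← Matrix.map_mul, h2, Matrix.map_one _ (map_zero _) (map_one _)]
  have hmul : ∀ v : ι → T, ∀ j, ∑ i, algebraMap R T (Θ j i) * v i = ΘT.mulVec v j := by
    intro v j
    simp [Matrix.mulVec, dotProduct, hΘT]
  constructor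
  · intro f₁ f₂ hf
    apply algHom_ext
    set t : ι → T := fun i => f₁ (gen p Θ i) with ht
    set t' : ι → T := fun i => f₂ (gen p Θ i) with ht'
    set ε : ι → T := fun i => t' i - t i with hε
    have hεJ : ∀ i, ε i ∈ J := by
      intro i
      have := AlgHom.congr_fun hf (gen p Θ i)
      simp only [AlgHom.comp_apply, Ideal.Quotient.mkₐ_eq_mk] at this
      rw [hε, ← Ideal.Quotient.eq]
      exact this.symm
    have hrel : ∀ (f : Cov p Θ →ₐ[R] T) (j : ι),
        f (gen p Θ j) ^ p = ∑ i, algebraMap R T (Θ j i) * f (gen p Θ i) := by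
      intro f j
      rw [← map_pow, gen_pow, map_sum]
      apply Finset.sum_congr rfl
      intro i _
      rw [map_mul, AlgHom.commutes]
    have hΘε : ΘT.mulVec ε = 0 := by
      ext j
      rw [← hmul]
      have e1 : t' j ^ p = t j ^ p := by
        have : t' j = t j + ε j := by rw [hε]; ring
        rw [this, pow_add_eq_of_sq_eq_bot p hpT J hJ _ _ (hεJ j)]
      have e2 := hrel f₁ j
      have e3 := hrel f₂ j
      change t j ^ p = ∑ i, algebraMap R T (Θ j i) * t i at e2
      change t' j ^ p = ∑ i, algebraMap R T (Θ j i) * t' i at e3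
      rw [e1, e2] at e3
      have : ∑ i, algebraMap R T (Θ j i) * ε i =
          ∑ i, algebraMap R T (Θ j i) * t' i - ∑ i, algebraMap R T (Θ j i) * t i := by
        rw [← Finset.sum_sub_distrib]
        apply Finset.sum_congr rfl
        intro i _
        rw [hε]; ring
      rw [this, ← e3, sub_self]
      rfl
    have hε0 : ε = 0 := by
      have := congrArg ΘT'.mulVec hΘε
      rwa [Matrix.mulVec_mulVec, hT1, Matrix.one_mulVec, Matrix.mulVec_zero] at this
    intro i
    have := congrFun hε0 i
    simp only [hε, Pi.zero_apply, sub_eq_zero] at this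
    exact this.symm
  · intro g
    choose t ht using fun i => Ideal.Quotient.mk_surjective (g (gen p Θ i))
    set δ : ι → T := fun j => t j ^ p - ∑ i, algebraMap R T (Θ j i) * t i with hδ
    have hδJ : ∀ j, δ j ∈ J := by
      intro j
      rw [← Ideal.Quotient.eq_zero_iff_mem, hδ, map_sub, map_pow, map_sum, ht, ← map_pow, gen_pow,
        map_sum, sub_eq_zero]
      apply Finset.sum_congr rfl
      intro i _
      rw [map_mul, map_mul, ht, AlgHom.commutes]
      rfl
    set ε : ι → T := ΘT'.mulVec δ with hε
    have hεJ : ∀ i, ε i ∈ J := by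
      intro i
      rw [hε]
      simp only [Matrix.mulVec, dotProduct]
      exact J.sum_mem fun k _ => J.mul_mem_left _ (hδJ k)
    have hΘε : ΘT.mulVec ε = δ := by
      rw [hε, Matrix.mulVec_mulVec, hT2, Matrix.one_mulVec]
    set t' : ι → T := fun i => t i + ε i with ht'
    have hrel : ∀ j, t' j ^ p = ∑ i, algebraMap R T (Θ j i) * t' i := by
      intro j
      rw [ht', pow_add_eq_of_sq_eq_bot p hpT J hJ _ _ (hεJ j)]
      have : ∑ i, algebraMap R T (Θ j i) * (t i + ε i) =
          ∑ i, algebraMap R T (Θ j i) * t i + ∑ i, algebraMap R T (Θ j i) * ε i := by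
        rw [← Finset.sum_add_distrib]
        apply Finset.sum_congr rfl
        intro i _
        ring
      rw [this, hmul ε j, hΘε, hδ]
      ring
    refine ⟨lift p Θ t' hrel, ?_⟩
    apply algHom_ext
    intro i
    simp only [AlgHom.comp_apply, lift_gen, Ideal.Quotient.mkₐ_eq_mk]
    rw [ht', map_add, ht, Ideal.Quotient.eq_zero_iff_mem.2 (hεJ i), add_zero]

theorem etale_cov (hpR : (p : R) = 0) (h1 : Θ' * Θ = 1) : Algebra.Etale R (Cov p Θ) := by
  haveI := formallyEtale_cov p Θ Θ' hpR h1
  haveI := finitePresentation_cov p Θ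
  exact ⟨inferInstance, inferInstance⟩

end cover

end Groth.Agent.H78.CharPCover
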