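import Mathlib
import Groth.Agent.H78.CharPCover.Cover

/-!
# Finite étale covers of a quotient in characteristic `p` are dominated by covers of the ring
-/

set_option autoImplicit false
set_option linter.style.haveILetI false
set_option linter.unusedSimpArgs false
set_option linter.unusedVariables false

universe u

open TensorProduct

namespace Groth.Agent.H78.CharPCover

section blocks

variable {R : Type u} [CommRing R] {n : ℕ} (L L' : Matrix (Fin n) (Fin n) R)

/-- the matrix `Θ` -/
def bigTheta : Matrix (Fin n ⊕ Fin n) (Fin n ⊕ Fin n) R :=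
  Matrix.fromBlocks L' 1 (1 - L * L') (-L)

/-- its inverse -/
def bigTheta' : Matrix (Fin n ⊕ Fin n) (Fin n ⊕ Fin n) R :=
  Matrix.fromBlocks L 1 (1 - L' * L) (-L')

theorem bigTheta'_mul : bigTheta' L L' * bigTheta L L' = 1 := by
  rw [bigTheta, bigTheta', Matrix.fromBlocks_multiply, ← Matrix.fromBlocks_one]
  congr 1
  · noncomm_ring
  · noncomm_ring
  · noncomm_ring
  · noncomm_ring

end blocks

theorem main (p : ℕ) [hp : Fact p.Prime] (R A B : Type u)
    [CommRing R] [CommRing A] [CommRing B] [CharP R p] [Algebra R A]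
    (hRA : Function.Surjective (algebraMap R A)) [Algebra A B] [Module.Finite A B]
    [Algebra.Etale A B] :
    ∃ (C : Type u) (_ : CommRing C) (_ : Algebra R C), Module.Finite R C ∧ Algebra.Etale R C ∧
      ∃ ψ : A ⊗[R] C →ₐ[A] B, Function.Surjective ψ := by
  classical
  have hpR : (p : R) = 0 := CharP.cast_eq_zero R p
  have hpA : (p : A) = 0 := by
    rw [← map_natCast (algebraMap R A), hpR, map_zero]
  have hpB : (p : B) = 0 := by
    rw [← map_natCast (algebraMap A B), hpA, map_zero]
  letI : Algebra R B := ((algebraMap A B).comp (algebraMap R A)).toAlgebra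
  haveI : IsScalarTower R A B := IsScalarTower.of_algebraMap_eq fun _ => rfl
  -- generators
  obtain ⟨n, b, hb⟩ := Module.Finite.exists_fin (R := A) (M := B)
  have hfrob := span_pow_eq_top p A B hpA
  have hbp : Submodule.span A (Set.range fun i => b i ^ p) = ⊤ := by
    rw [eq_top_iff, ← hfrob, Submodule.span_le]
    rintro _ ⟨x, rfl⟩
    have hx : x ∈ Submodule.span A (Set.range b) := by rw [hb]; trivial
    obtain ⟨c, rfl⟩ := (Submodule.mem_span_range_iff_exists_fun A).1 hx
    simp only
    rw [sum_pow_of_cast_eq_zero p hpB]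
    apply Submodule.sum_mem
    intro i _
    rw [Algebra.smul_def, mul_pow, ← map_pow, ← Algebra.smul_def]
    exact Submodule.smul_mem _ _ (Submodule.subset_span ⟨i, rfl⟩)
  -- the coefficient matrices over `A`
  have h1 : ∀ j, ∃ c : Fin n → A, ∑ i, c i • b i = b j ^ p := by
    intro j
    apply (Submodule.mem_span_range_iff_exists_fun A).1
    rw [hb]; trivial
  have h2 : ∀ j, ∃ c : Fin n → A, ∑ i, c i • b i ^ p = b j := by
    intro j
    apply (Submodule.mem_span_range_iff_exists_fun A).1
    rw [hbp]; trivial
  choose LA' hLA' using h1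
  choose LA hLA using h2
  -- lifts to `R`
  choose lft hlft using hRA
  let L : Matrix (Fin n) (Fin n) R := fun j i => lft (LA j i)
  let L' : Matrix (Fin n) (Fin n) R := fun j i => lft (LA' j i)
  set Θ := bigTheta L L' with hΘ
  refine ⟨Cov p Θ, inferInstance, inferInstance, finite_cov p Θ,
    etale_cov p Θ (bigTheta' L L') hpR (bigTheta'_mul L L'), ?_⟩
  -- the point of the cover with values in `B`
  let t : Fin n ⊕ Fin n → B := Sum.elim b 0
  have hmapL : ∀ j i, algebraMap R B (L j i) = algebraMap A B (LA j i) := by
    intro j i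
    rw [IsScalarTower.algebraMap_apply R A B, hlft]
  have hmapL' : ∀ j i, algebraMap R B (L' j i) = algebraMap A B (LA' j i) := by
    intro j i
    rw [IsScalarTower.algebraMap_apply R A B, hlft]
  have ht : ∀ j, t j ^ p = ∑ i, algebraMap R B (Θ j i) * t i := by
    rintro (j | j)
    · rw [Fintype.sum_sum_type]
      simp only [t, Sum.elim_inl, Sum.elim_inr, Pi.zero_apply, mul_zero, Finset.sum_const_zero,
        add_zero, hΘ, bigTheta, Matrix.fromBlocks_apply₁₁]
      rw [← hLA' j]
      apply Finset.sum_congr rfl
      intro i _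
      rw [hmapL', Algebra.smul_def]
    · rw [Fintype.sum_sum_type]
      simp only [t, Sum.elim_inl, Sum.elim_inr, Pi.zero_apply, mul_zero, Finset.sum_const_zero,
        add_zero, hΘ, bigTheta, Matrix.fromBlocks_apply₂₁]
      rw [zero_pow hp.out.ne_zero]
      have e1 : ∀ i, algebraMap R B ((1 - L * L') j i) * b i =
          (if j = i then b i else 0) - ∑ k, algebraMap A B (LA j k) * (algebraMap A B (LA' k i) * b i) := by
        intro i
        rw [Matrix.sub_apply, Matrix.one_apply, Matrix.mul_apply, map_sub, map_sum, sub_mul,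
          Finset.sum_mul]
        congr 1
        · split_ifs <;> simp
        · apply Finset.sum_congr rfl
          intro k _
          rw [map_mul, hmapL, hmapL', mul_assoc]
      simp only [e1]
      rw [Finset.sum_sub_distrib, Finset.sum_ite_eq, if_pos (Finset.mem_univ j), Finset.sum_comm]
      have e2 : ∀ k, ∑ i, algebraMap A B (LA j k) * (algebraMap A B (LA' k i) * b i) =
          LA j k • b k ^ p := by
        intro k
        rw [← Finset.mul_sum, ← hLA' k, Algebra.smul_def]
        congr 1
        apply Finset.sum_congr rfl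
        intro i _
        rw [Algebra.smul_def]
      simp only [e2]
      rw [hLA j, sub_self]
  let g : Cov p Θ →ₐ[R] B := lift p Θ t ht
  let ψ : A ⊗[R] Cov p Θ →ₐ[A] B :=
    Algebra.TensorProduct.lift (Algebra.ofId A B) g (fun _ _ => Commute.all _ _)
  refine ⟨ψ, ?_⟩
  have hrange : (⊤ : Submodule A B) ≤ Subalgebra.toSubmodule ψ.range := by
    rw [← hb, Submodule.span_le]
    rintro _ ⟨i, rfl⟩
    refine ⟨1 ⊗ₜ gen p Θ (Sum.inl i), ?_⟩
    simp [ψ, g, t]
  intro x
  have := hrange (Submodule.mem_top (x := x))
  exact this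

end Groth.Agent.H78.CharPCover
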